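import Mathlib.Data.Matrix.Mul
import Mathlib.LinearAlgebra.Matrix.Determinant.Basic
import Mathlib.Data.ZMod.Basic
import Mathlib.Data.Nat.Bitwise
import Mathlib.Tactic

/-! Square matrices over the field of two elements coded by bits, row by row. -/

set_option autoImplicit false

namespace Cfsg.Agent.HeUniq.Bit

/-- a bit as a scalar -/
def sc (b : Bool) : ZMod 2 := bif b then 1 else 0

theorem sc_xor : ∀ a b : Bool, sc (a ^^ b) = sc a + sc b := by decide

theorem sc_and : ∀ a b : Bool, sc (a && b) = sc a * sc b := by decide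

theorem sc_inj : ∀ {a b : Bool}, sc a = sc b → a = b := by decide

theorem exists_sc : ∀ x : ZMod 2, ∃ b, sc b = x := by decide

/-- row `i` -/
def row (n c i : ℕ) : ℕ := Nat.mod (Nat.shiftRight c (Nat.mul n i)) (Nat.pow 2 n)

theorem testBit_row {n c i j : ℕ} (hj : j < n) : (row n c i).testBit j = c.testBit (n * i + j) := by
  show ((c >>> (n * i)) % 2 ^ n).testBit j = _
  rw [Nat.testBit_mod_two_pow, Nat.testBit_shiftRight]
  simp [hj]

theorem row_lt (n c i : ℕ) : row n c i < 2 ^ n := Nat.mod_lt _ (Nat.two_pow_pos n)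

/-- the combination of the first `m` rows of `B` selected by the bits of `a` -/
def vmulUpto (n a B : ℕ) (m : ℕ) : ℕ :=
  Nat.rec 0 (fun k r => bif a.testBit k then Nat.xor r (row n B k) else r) m

theorem vmulUpto_succ (n a B m : ℕ) :
    vmulUpto n a B (m + 1) = if a.testBit m then vmulUpto n a B m ^^^ row n B m else vmulUpto n a B m := by
  show (bif a.testBit m then Nat.xor (vmulUpto n a B m) (row n B m) else vmulUpto n a B m) = _
  cases a.testBit m <;> rfl

theorem vmulUpto_bit {n a B j : ℕ} (hj : j < n) : ∀ m : ℕ, m ≤ n →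
    sc ((vmulUpto n a B m).testBit j) = ∑ k : Fin m, sc (a.testBit k) * sc (B.testBit (n * k + j)) := by
  intro m
  induction m with
  | zero => intro _; simp [vmulUpto, sc]
  | succ m ih =>
    intro hm
    rw [Fin.sum_univ_castSucc, ← show sc ((vmulUpto n a B m).testBit j) =
      ∑ k : Fin m, sc (a.testBit (Fin.castSucc k).1) * sc (B.testBit (n * (Fin.castSucc k).1 + j)) from
        ih (by omega), vmulUpto_succ]
    cases h : a.testBit m <;>
      simp [h, sc, ← sc_xor, testBit_row hj, Nat.testBit_xor]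
    cases (vmulUpto n a B m).testBit j <;> cases B.testBit (n * m + j) <;> decide

theorem vmulUpto_lt (n a B : ℕ) : ∀ m : ℕ, vmulUpto n a B m < 2 ^ n := by
  intro m
  induction m with
  | zero => exact Nat.two_pow_pos n
  | succ m ih =>
    rw [vmulUpto_succ]
    split
    · exact Nat.xor_lt_two_pow ih (row_lt n B m)
    · exact ih

/-- the rows of a code below `m` -/
def packUpto (n : ℕ) (f : ℕ → ℕ) (m : ℕ) : ℕ :=
  Nat.rec 0 (fun i r => Nat.lor r (Nat.shiftLeft (f i) (Nat.mul n i))) m

theorem packUpto_succ (n : ℕ) (f : ℕ → ℕ) (m : ℕ) :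
    packUpto n f (m + 1) = packUpto n f m ||| f m <<< (n * m) := rfl

theorem packUpto_lt {n : ℕ} {f : ℕ → ℕ} (hf : ∀ i, f i < 2 ^ n) : ∀ m : ℕ, packUpto n f m < 2 ^ (n * m) := by
  intro m
  induction m with
  | zero => simp [packUpto]
  | succ m ih =>
    rw [packUpto_succ, Nat.mul_succ]
    refine Nat.or_lt_two_pow (lt_of_lt_of_le ih (Nat.pow_le_pow_right two_pos (Nat.le_add_right _ _))) ?_
    rw [Nat.shiftLeft_eq, pow_add, mul_comm (2 ^ (n * m))]
    exact Nat.mul_lt_mul_of_pos_right (hf m) (Nat.two_pow_pos _)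

theorem testBit_pack {n : ℕ} {f : ℕ → ℕ} (hf : ∀ i, f i < 2 ^ n) : ∀ m : ℕ, ∀ i j, i < m → j < n →
    (packUpto n f m).testBit (n * i + j) = (f i).testBit j := by
  intro m
  induction m with
  | zero => omega
  | succ m ih =>
    intro i j hi hj
    rw [packUpto_succ, Nat.testBit_or, Nat.testBit_shiftLeft]
    rcases Nat.lt_succ_iff_lt_or_eq.1 hi with h | rfl
    · have : n * i + j < n * m := by
        have := Nat.mul_le_mul_left n (show i + 1 ≤ m from h)
        rw [Nat.mul_succ] at this; omega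
      rw [ih i j h hj, decide_eq_false (by omega), Bool.false_and, Bool.or_false]
    · rw [Nat.testBit_lt_two_pow (lt_of_lt_of_le (packUpto_lt hf i)
        (Nat.pow_le_pow_right two_pos (Nat.le_add_right _ _))), decide_eq_true (by omega), Bool.true_and,
        Bool.false_or, Nat.add_sub_cancel_left]

/-- the product of coded matrices -/
def bmul (n A B : ℕ) : ℕ := packUpto n (fun i => vmulUpto n (row n A i) B n) n

/-- the identity -/
def bone (n : ℕ) : ℕ := packUpto n (fun i => Nat.mod (Nat.shiftLeft 1 i) (Nat.pow 2 n)) n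

theorem bmul_lt (n A B : ℕ) : bmul n A B < 2 ^ (n * n) := packUpto_lt (fun _ => vmulUpto_lt _ _ _ _) n

theorem bone_lt (n : ℕ) : bone n < 2 ^ (n * n) := packUpto_lt (fun _ => Nat.mod_lt _ (Nat.two_pow_pos n)) n

/-- the matrix of a code -/
def toMat (n c : ℕ) : Matrix (Fin n) (Fin n) (ZMod 2) := fun i j => sc (c.testBit (n * i + j))

theorem toMat_bmul (n A B : ℕ) : toMat n (bmul n A B) = toMat n A * toMat n B := by
  ext i j
  rw [Matrix.mul_apply]
  show sc ((bmul n A B).testBit (n * i + j)) = _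
  rw [bmul, testBit_pack (fun _ => vmulUpto_lt _ _ _ _) n i j i.2 j.2, vmulUpto_bit j.2 n le_rfl]
  exact Finset.sum_congr rfl fun k _ => by rw [testBit_row k.2]; rfl

theorem toMat_bone (n : ℕ) : toMat n (bone n) = 1 := by
  ext i j
  show sc ((bone n).testBit (n * i + j)) = _
  show sc ((packUpto n (fun i => (1 <<< i) % 2 ^ n) n).testBit (n * i + j)) = (1 : Matrix (Fin n) (Fin n) (ZMod 2)) i j
  rw [testBit_pack (fun _ => Nat.mod_lt _ (Nat.two_pow_pos n)) n i j i.2 j.2]
  rw [Nat.testBit_mod_two_pow, Nat.one_shiftLeft, Nat.testBit_two_pow]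
  by_cases h : i = j
  · subst h; simp [sc]
  · simp [sc, Matrix.one_apply_ne h, j.2, Fin.val_ne_of_ne h]

theorem exists_divmod {n k : ℕ} (h : k < n * n) : ∃ i j : Fin n, k = n * i + j := by
  have hn : 0 < n := Nat.pos_of_ne_zero fun h0 => by subst h0; simp at h
  exact ⟨⟨k / n, Nat.div_lt_of_lt_mul h⟩, ⟨k % n, Nat.mod_lt _ hn⟩, (Nat.div_add_mod k n).symm⟩

theorem toMat_inj {n a b : ℕ} (ha : a < 2 ^ (n * n)) (hb : b < 2 ^ (n * n)) (h : toMat n a = toMat n b) :
    a = b := by
  refine Nat.eq_of_testBit_eq fun k => ?_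
  by_cases hk : k < n * n
  · obtain ⟨i, j, rfl⟩ := exists_divmod hk
    exact sc_inj (congrFun (congrFun h i) j)
  · rw [Nat.testBit_lt_two_pow (ha.trans_le (Nat.pow_le_pow_right two_pos (not_lt.1 hk))),
      Nat.testBit_lt_two_pow (hb.trans_le (Nat.pow_le_pow_right two_pos (not_lt.1 hk)))]

theorem bmul_assoc (n A B C : ℕ) : bmul n (bmul n A B) C = bmul n A (bmul n B C) := by
  refine toMat_inj (bmul_lt _ _ _) (bmul_lt _ _ _) ?_
  simp only [toMat_bmul, Matrix.mul_assoc]

theorem bmul_one {n A : ℕ} (h : A < 2 ^ (n * n)) : bmul n A (bone n) = A := by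
  refine toMat_inj (bmul_lt _ _ _) h ?_
  rw [toMat_bmul, toMat_bone, Matrix.mul_one]

theorem one_bmul {n A : ℕ} (h : A < 2 ^ (n * n)) : bmul n (bone n) A = A := by
  refine toMat_inj (bmul_lt _ _ _) h ?_
  rw [toMat_bmul, toMat_bone, Matrix.one_mul]

theorem exists_code {n : ℕ} (M : Matrix (Fin n) (Fin n) (ZMod 2)) : ∃ c < 2 ^ (n * n), toMat n c = M := by
  classical
  choose b hb using fun i j => exists_sc (M i j)
  let f : ℕ → ℕ := fun i => (Nat.ofBits fun j : Fin n => if h : i < n then b ⟨i, h⟩ j else false)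
  have hf : ∀ i, f i < 2 ^ n := fun i => Nat.ofBits_lt_two_pow _
  refine ⟨packUpto n f n, packUpto_lt hf n, ?_⟩
  ext i j
  show sc ((packUpto n f n).testBit (n * i + j)) = _
  rw [testBit_pack hf n i j i.2 j.2, Nat.testBit_ofBits_lt _ _ j.2, dif_pos i.2]
  exact hb i j

/-- the entries of row `i` of the anti-transpose, below `m` -/
def revRow (n c i : ℕ) (m : ℕ) : ℕ :=
  Nat.rec 0 (fun j r => bif c.testBit (Nat.add (Nat.mul n (n - 1 - j)) (n - 1 - i))
    then Nat.lor r (Nat.shiftLeft 1 j) else r) m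

theorem revRow_bit (n c i : ℕ) : ∀ m j : ℕ,
    (revRow n c i m).testBit j = (decide (j < m) && c.testBit (n * (n - 1 - j) + (n - 1 - i))) := by
  intro m
  induction m with
  | zero => intro j; simp [revRow]
  | succ m ih =>
    intro j
    show (bif c.testBit (n * (n - 1 - m) + (n - 1 - i)) then revRow n c i m ||| 1 <<< m
      else revRow n c i m).testBit j = _
    rcases eq_or_ne j m with rfl | hne
    · cases h : c.testBit (n * (n - 1 - j) + (n - 1 - i)) <;>
        simp [ih, Nat.testBit_or, Nat.one_shiftLeft, h]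
    · have he : decide (j ≤ m) = decide (j < m) := by rw [decide_eq_decide]; omega
      cases h : c.testBit (n * (n - 1 - m) + (n - 1 - i)) <;>
        simp [ih, Nat.testBit_or, Nat.one_shiftLeft, Nat.testBit_two_pow, hne.symm, he]

theorem revRow_lt (n c i : ℕ) : revRow n c i n < 2 ^ n :=
  Nat.lt_pow_two_of_testBit _ fun j hj => by rw [revRow_bit, decide_eq_false (not_lt.2 hj), Bool.false_and]

/-- the anti-transpose -/
def rev (n c : ℕ) : ℕ := packUpto n (fun i => revRow n c i n) n

theorem rev_lt (n c : ℕ) : rev n c < 2 ^ (n * n) := packUpto_lt (fun _ => revRow_lt _ _ _) n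

theorem toMat_rev (n c : ℕ) :
    toMat n (rev n c) = ((toMat n c).submatrix Fin.rev Fin.rev).transpose := by
  ext i j
  show sc ((rev n c).testBit (n * i + j)) = _
  rw [rev, testBit_pack (fun _ => revRow_lt _ _ _) n i j i.2 j.2, revRow_bit, decide_eq_true j.2, Bool.true_and]
  show _ = sc (c.testBit (n * (Fin.rev j : ℕ) + Fin.rev i))
  rw [Fin.val_rev, Fin.val_rev, Nat.sub_sub, Nat.sub_sub, Nat.add_comm 1, Nat.add_comm 1]

theorem rev_bmul (n A B : ℕ) : rev n (bmul n A B) = bmul n (rev n B) (rev n A) := by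
  refine toMat_inj (rev_lt _ _) (bmul_lt _ _ _) ?_
  rw [toMat_rev, toMat_bmul, toMat_bmul, toMat_rev, toMat_rev, ← Matrix.transpose_mul]
  exact congrArg Matrix.transpose (Matrix.submatrix_mul_equiv (toMat n A) (toMat n B) Fin.rev Fin.revPerm Fin.rev).symm

end Cfsg.Agent.HeUniq.Bit
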