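import Cfsg.Agent.Lib.HeUniq.Bit.Basic

/-! Quick products of five by five codes. -/

set_option autoImplicit false

namespace Cfsg.Agent.HeUniq.Bit

/-- one selected row -/
def sel5 (a B k : ℕ) : ℕ :=
  Nat.mul (Nat.land (Nat.shiftRight a k) 1) (Nat.land (Nat.shiftRight B (Nat.mul 5 k)) 31)

/-- a row times a code -/
def vm5 (a B : ℕ) : ℕ :=
  Nat.xor (Nat.xor (Nat.xor (Nat.xor (sel5 a B 0) (sel5 a B 1)) (sel5 a B 2)) (sel5 a B 3)) (sel5 a B 4)

/-- the product -/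
def mul5 (A B : ℕ) : ℕ :=
  Nat.lor (Nat.lor (Nat.lor (Nat.lor (vm5 A B) (Nat.shiftLeft (vm5 (Nat.shiftRight A 5) B) 5))
    (Nat.shiftLeft (vm5 (Nat.shiftRight A 10) B) 10)) (Nat.shiftLeft (vm5 (Nat.shiftRight A 15) B) 15))
    (Nat.shiftLeft (vm5 (Nat.shiftRight A 20) B) 20)

theorem sel5_eq (a B k : ℕ) : sel5 a B k = if a.testBit k then row 5 B k else 0 := by
  show (a >>> k &&& 1) * (B >>> (5 * k) &&& 31) = if a.testBit k then (B >>> (5 * k)) % 2 ^ 5 else 0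
  rw [Nat.and_one_is_mod, show (31 : ℕ) = 2 ^ 5 - 1 by norm_num, Nat.and_two_pow_sub_one_eq_mod,
    Nat.shiftRight_eq_div_pow a, Nat.testBit_eq_decide_div_mod_eq]
  rcases Nat.mod_two_eq_zero_or_one (a / 2 ^ k) with h | h <;> simp [h]

theorem vm5_eq (A B i : ℕ) : vm5 (A >>> (5 * i)) B = vmulUpto 5 (row 5 A i) B 5 := by
  simp only [vmulUpto_succ, show vmulUpto 5 (row 5 A i) B 0 = 0 from rfl]
  rw [testBit_row (show 0 < 5 by norm_num), testBit_row (show 1 < 5 by norm_num),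
    testBit_row (show 2 < 5 by norm_num), testBit_row (show 3 < 5 by norm_num),
    testBit_row (show 4 < 5 by norm_num)]
  simp only [vm5, sel5_eq, Nat.testBit_shiftRight]
  show (((_ : ℕ) ^^^ _) ^^^ _ ^^^ _) ^^^ _ = _
  split_ifs <;> simp

theorem mul5_eq (A B : ℕ) : mul5 A B = bmul 5 A B := by
  show vm5 A B ||| vm5 (A >>> 5) B <<< 5 ||| vm5 (A >>> 10) B <<< 10 ||| vm5 (A >>> 15) B <<< 15
    ||| vm5 (A >>> 20) B <<< 20 = _
  have h0 := vm5_eq A B 0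
  simp only [Nat.mul_zero, Nat.shiftRight_zero] at h0
  rw [h0, show (5 : ℕ) = 5 * 1 from rfl] 
  simp only [bmul, packUpto_succ, show ∀ f, packUpto 5 f 0 = 0 from fun _ => rfl, Nat.zero_or, Nat.mul_zero,
    Nat.shiftLeft_zero, Nat.mul_one]
  rw [← vm5_eq A B 1, ← vm5_eq A B 2, ← vm5_eq A B 3, ← vm5_eq A B 4]

/-- a row of the anti-transpose: the source bits are `20 + d`, `15 + d`, ..., `d` -/
def rrow5 (c d : ℕ) : ℕ :=
  Nat.lor (Nat.lor (Nat.lor (Nat.lor (Nat.land (Nat.shiftRight c (Nat.add 20 d)) 1)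
    (Nat.shiftLeft (Nat.land (Nat.shiftRight c (Nat.add 15 d)) 1) 1))
    (Nat.shiftLeft (Nat.land (Nat.shiftRight c (Nat.add 10 d)) 1) 2))
    (Nat.shiftLeft (Nat.land (Nat.shiftRight c (Nat.add 5 d)) 1) 3))
    (Nat.shiftLeft (Nat.land (Nat.shiftRight c d) 1) 4)

/-- the anti-transpose -/
def rev5 (c : ℕ) : ℕ :=
  Nat.lor (Nat.lor (Nat.lor (Nat.lor (rrow5 c 4) (Nat.shiftLeft (rrow5 c 3) 5)) (Nat.shiftLeft (rrow5 c 2) 10))
    (Nat.shiftLeft (rrow5 c 1) 15)) (Nat.shiftLeft (rrow5 c 0) 20)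

theorem selbit (c k j r : ℕ) :
    (bif c.testBit k then Nat.lor r (Nat.shiftLeft 1 j) else r) = r ||| (c >>> k &&& 1) <<< j := by
  rw [Nat.and_one_is_mod, Nat.shiftRight_eq_div_pow, Nat.testBit_eq_decide_div_mod_eq]
  rcases Nat.mod_two_eq_zero_or_one (c / 2 ^ k) with h | h <;> simp [h]

theorem rrow5_eq (c i : ℕ) : rrow5 c (4 - i) = revRow 5 c i 5 := by
  have h : ∀ m, revRow 5 c i (m + 1) =
      revRow 5 c i m ||| (c >>> (5 * (4 - m) + (4 - i)) &&& 1) <<< m := fun m => selbit c _ m _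
  rw [h, h, h, h, h, show revRow 5 c i 0 = 0 from rfl]
  show _ = _
  simp [rrow5]

theorem rev5_eq (c : ℕ) : rev5 c = rev 5 c := by
  show rev5 c = packUpto 5 (fun i => revRow 5 c i 5) 5
  simp only [packUpto_succ, show ∀ f, packUpto 5 f 0 = 0 from fun _ => rfl, ← rrow5_eq]
  simp [rev5]

end Cfsg.Agent.HeUniq.Bit
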